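import Groth.Agent.GrpArtin.SpreadFinite
import Groth.Agent.GrpScheme.Points
import Groth.Agent.GrpdLib.GrpOver
import Groth.Agent.GrpdLib.FppfSourceDescentScheme
import Groth.Agent.FpqcDesc.Props
import Groth.Agent.GrpQuot19.Field
import Groth.Agent.AGFQuot.Basic
import Groth.Prelude.Def_AGF

/-!
# Orbits: an equivariant monomorphism out of a homogeneous space is an immersion
-/

set_option autoImplicit false

universe u

open CategoryTheory CategoryTheory.Limits MonoidalCategory CartesianMonoidalCategory MonObj GrpObj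
  AlgebraicGeometry TopologicalSpace

namespace Groth.Agent.GrpQuot50.Orbit

open Groth.Agent.GrpScheme

lemma mono_restrict {X Y : Scheme.{u}} (f : X ⟶ Y) [Mono f] (V : Y.Opens) : Mono (f ∣_ V) := by
  have : Mono ((f ∣_ V) ≫ V.ι) := by rw [morphismRestrict_ι]; infer_instance
  exact mono_of_mono _ V.ι

/-- A monomorphism of finite type is a closed immersion over an open meeting its image. -/
theorem exists_isClosedImmersion_restrict {X Y : Scheme.{u}} (f : X ⟶ Y) [Mono f] [QuasiCompact f]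
    [LocallyOfFiniteType f] [NoetherianSpace X] [Nonempty X] :
    ∃ (V : Y.Opens) (x : X), f x ∈ V ∧ IsClosedImmersion (f ∣_ V) := by
  classical
  have hfin : {a : X | Component.IsMaxGen a}.Finite :=
    Set.Finite.of_injOn (f := fun a => closure ({a} : Set X)) (t := irreducibleComponents X)
      (fun a ha => Component.isMaxGen_iff.mp ha)
      (fun a _ b _ h => (inseparable_iff_closure_eq.mpr h).eq)
      NoetherianSpace.finite_irreducibleComponents
  obtain ⟨a, -, -⟩ := Component.exists_isMaxGen (Classical.arbitrary X)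
  let S : Finset Y := hfin.toFinset.image f
  have hne : S.Nonempty := by
    obtain ⟨m, hm, -⟩ := Component.exists_isMaxGen a
    exact ⟨f m, Finset.mem_image_of_mem f (hfin.mem_toFinset.2 hm)⟩
  obtain ⟨s, hs, hmin⟩ := S.exists_min_image (fun s => (S.filter fun s' => s' ⤳ s).card) hne
  obtain ⟨m, -, rfl⟩ := Finset.mem_image.1 hs
  have key : ∀ x, f x ⤳ f m → f x = f m := by
    intro x hx
    obtain ⟨b, hb, hbx⟩ := Component.exists_isMaxGen x
    have h1 : f b ⤳ f m := (hbx.map f.continuous).trans hx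
    have hbS : f b ∈ S := Finset.mem_image_of_mem f (hfin.mem_toFinset.2 hb)
    have hsub : (S.filter fun s' => s' ⤳ f b) ⊆ S.filter fun s' => s' ⤳ f m := fun c hc =>
      Finset.mem_filter.2 ⟨(Finset.mem_filter.1 hc).1, (Finset.mem_filter.1 hc).2.trans h1⟩
    have h2 := Finset.eq_of_subset_of_card_le hsub (hmin _ hbS)
    have h3 : f m ⤳ f b := (Finset.mem_filter.1 (h2 ▸ Finset.mem_filter.2 ⟨hs, specializes_rfl⟩ :
      f m ∈ S.filter fun s' => s' ⤳ f b)).2
    exact (hx.antisymm (h3.trans (hbx.map f.continuous))).eq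
  obtain ⟨V, hV, hfinV⟩ := GrpArtin.Spread.exists_isFinite_restrict f (f m) key
  have := mono_restrict f V
  exact ⟨V, m, hV, (IsClosedImmersion.iff_isFinite_and_mono _).mpr ⟨hfinV, inferInstance⟩⟩

lemma mono_left {S : Scheme.{u}} {A B : Over S} (f : A ⟶ B) [Mono f] : Mono f.left :=
  inferInstanceAs (Mono ((Over.forget S).map f))

variable {K : Type u} [Field K] {G X Y : Over (Spec (CommRingCat.of K))} [GrpObj G]

/-- An equivariant monomorphism of finite type out of a homogeneous space is an immersion. -/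
theorem isImmersion_of_equivariant_mono [LocallyOfFiniteType G.hom] [LocallyOfFiniteType X.hom]
    [LocallyOfFiniteType Y.hom] [QuasiCompact Y.hom] (a : AlgGrp.Action G X) (b : AlgGrp.Action G Y)
    (f : Y ⟶ X) [Mono f] [QuasiCompact f.left] (hf : (G ◁ f) ≫ a.act = b.act ≫ f)
    (y : 𝟙_ (Over (Spec (CommRingCat.of K))) ⟶ Y) [Surjective (b.orbitMap y).left] :
    IsImmersion f.left := by
  have := mono_left f
  have : LocallyOfFiniteType (f.left ≫ X.hom) := by rw [Over.w f]; infer_instance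
  have := locallyOfFiniteType_of_comp f.left X.hom
  have : IsLocallyNoetherian Y.left := LocallyOfFiniteType.isLocallyNoetherian Y.hom
  have : CompactSpace Y.left := (quasiCompact_iff_compactSpace Y.hom).1 inferInstance
  have : IsNoetherian Y.left := ⟨⟩
  have : Nonempty Y.left := ⟨(b.orbitMap y).left (η[G].left (IsLocalRing.closedPoint K))⟩
  obtain ⟨V, y₀, hy₀, hV⟩ := exists_isClosedImmersion_restrict f.left
  let W : (G ⊗ X).left.Opens := a.act.left ⁻¹ᵁ V
  have hsG : ∀ A : Over (Spec (CommRingCat.of K)), Flat (snd G A).left ∧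
      LocallyOfFinitePresentation (snd G A).left := fun A =>
    ⟨Basic.snd_left_mem @Flat inferInstance, Basic.snd_left_mem @LocallyOfFinitePresentation
      (LocallyOfFinitePresentation.iff_locallyOfFiniteType.mpr inferInstance)⟩
  have := (hsG X).1
  have := (hsG X).2
  have : UniversallyOpen (snd G X).left := UniversallyOpen.of_flat _
  let O : X.left.Opens := ⟨(snd G X).left '' (W : Set (G ⊗ X).left),
    (snd G X).left.isOpenMap _ W.2⟩
  -- the translates of `V` cover the orbit
  have hcov : ∀ z : Y.left, f.left z ∈ O := by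
    intro z
    obtain ⟨g, rfl⟩ := (b.orbitMap y).left.surjective z
    obtain ⟨g₀, rfl⟩ := (b.orbitMap y).left.surjective y₀
    let Tz := Points.pointObj G g₀
    let Tx := Points.pointObj G g
    let gz : Tz ⊗ Tx ⟶ G := fst Tz Tx ≫ Points.pointHom G g₀
    let gx : Tz ⊗ Tx ⟶ G := snd Tz Tx ≫ Points.pointHom G g
    obtain ⟨tz⟩ := (inferInstance : Nonempty Tz.left)
    obtain ⟨tx⟩ := (inferInstance : Nonempty Tx.left)
    obtain ⟨t, -, -⟩ := Scheme.Pullback.exists_preimage_pullback (f := Tz.hom) (g := Tx.hom) tz tx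
      (Subsingleton.elim (α := Spec (CommRingCat.of K)) _ _)
    refine ⟨(lift (gz * gx⁻¹) (gx ≫ b.orbitMap y ≫ f)).left t, ?_, ?_⟩
    · show a.act.left ((lift (gz * gx⁻¹) (gx ≫ b.orbitMap y ≫ f)).left t) ∈ V
      have e : lift (gz * gx⁻¹) (gx ≫ b.orbitMap y ≫ f) ≫ a.act = gz ≫ b.orbitMap y ≫ f := by
        rw [← Category.assoc gx, ← lift_whiskerLeft_assoc, hf, ← Category.assoc gz]
        refine (Category.assoc _ _ _).symm.trans (congrArg (· ≫ f) ?_)
        show Basic.smul b (gz * gx⁻¹) (gx ≫ b.orbitMap y) = gz ≫ b.orbitMap y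
        rw [AGFQuot.Basic.orbitMap_comp, AGFQuot.Basic.orbitMap_comp, ← Basic.mul_smul',
          inv_mul_cancel_right]
      rw [← Points.comp_apply, e, Points.comp_apply, Points.comp_apply, Points.comp_apply,
        Points.pointHom_apply]
      exact hy₀
    · rw [← Points.comp_apply, lift_snd, Points.comp_apply, Points.comp_apply, Points.comp_apply,
        Points.pointHom_apply]
  -- closed immersion over `O`
  have sq2 : IsPullback (G ◁ f).left (snd G Y).left (snd G X).left f.left :=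
    (Basic.isPullback_whiskerLeft f).map (Over.forget _)
  have sq1 : IsPullback (G ◁ f).left b.act.left a.act.left f.left := by
    have h : IsPullback (G ◁ f) b.act a.act f := by
      refine IsPullback.of_iso (Basic.isPullback_whiskerLeft (R := G) f) (Basic.shear b (𝟙 G)).symm
        (Basic.shear a (𝟙 G)).symm (Iso.refl _) (Iso.refl _) ?_ ?_ ?_ (by simp)
      · simp only [Iso.symm_hom]
        rw [Iso.eq_inv_comp, ← Category.assoc, Iso.comp_inv_eq]
        refine CartesianMonoidalCategory.hom_ext _ _ ?_ ?_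
        · simp [Basic.shear]
        · simp only [Basic.shear, Basic.smul, Category.assoc, whiskerLeft_snd, lift_snd,
            lift_snd_assoc, Category.comp_id, lift_fst_snd, Category.id_comp]
          exact hf.symm
      · simp [Basic.act_eq_shear_comp_snd]
      · simp [Basic.act_eq_shear_comp_snd]
    exact h.map (Over.forget _)
  let ψ := (G ◁ f).left
  let m : (W : Scheme.{u}) ⟶ V := a.act.left ∣_ V
  let h : (W : Scheme.{u}) ⟶ O := IsOpenImmersion.lift O.ι (W.ι ≫ (snd G X).left) (by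
    rintro _ ⟨w, rfl⟩
    rw [Scheme.Opens.range_ι]
    exact ⟨w.1, w.2, rfl⟩)
  have hh : h ≫ O.ι = W.ι ≫ (snd G X).left := IsOpenImmersion.lift_fac _ _ _
  have hm : m ≫ V.ι = W.ι ≫ a.act.left := morphismRestrict_ι _ _
  have p1 : IsPullback (ψ ∣_ W) ((ψ ⁻¹ᵁ W).ι ≫ b.act.left) (m ≫ V.ι) f.left :=
    hm ▸ (isPullback_morphismRestrict ψ W).paste_vert sq1
  have p2 : IsPullback (ψ ∣_ W) ((ψ ⁻¹ᵁ W).ι ≫ (snd G Y).left) (h ≫ O.ι) f.left :=
    hh ▸ (isPullback_morphismRestrict ψ W).paste_vert sq2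
  have q1 : IsClosedImmersion (ψ ∣_ W) :=
    MorphismProperty.of_isPullback (IsPullback.of_bot' p1 (isPullback_morphismRestrict f.left V)).flip hV
  have : Surjective h := ⟨fun ⟨x, w, hw, e⟩ => ⟨⟨w, hw⟩, Subtype.ext (Eq.trans
    (by show (h ≫ O.ι) ⟨w, hw⟩ = (snd G X).left w; rw [hh]; rfl) e)⟩⟩
  have : Flat (h ≫ O.ι) := by rw [hh]; infer_instance
  have sqh : IsPullback h (𝟙 (W : Scheme.{u})) O.ι (h ≫ O.ι) :=
    IsPullback.of_vert_isIso_mono ⟨by simp⟩
  have : Flat h := MorphismProperty.of_isPullback sqh.flip ‹_›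
  have : LocallyOfFinitePresentation (h ≫ O.ι) := by rw [hh]; infer_instance
  have : LocallyOfFinitePresentation h :=
    MorphismProperty.of_isPullback sqh.flip ‹_›
  have := FpqcDesc.descendsAlong_isClosedImmersion.{u}
  have hO : IsClosedImmersion (f.left ∣_ O) :=
    MorphismProperty.of_isPullback_of_descendsAlong
      (Q := @Surjective ⊓ @Flat ⊓ @LocallyOfFinitePresentation)
      (IsPullback.of_bot' p2 (isPullback_morphismRestrict f.left O))
      ⟨⟨inferInstance, inferInstance⟩, inferInstance⟩ q1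
  have : IsIso (f.left ⁻¹ᵁ O).ι := by
    rw [isIso_iff_isOpenImmersion_and_surjective]
    exact ⟨inferInstance, ⟨fun z => ⟨⟨z, hcov z⟩, rfl⟩⟩⟩
  have e : f.left = inv (f.left ⁻¹ᵁ O).ι ≫ (f.left ∣_ O) ≫ O.ι := by
    rw [morphismRestrict_ι, IsIso.inv_hom_id_assoc]
  rw [e]
  infer_instance

/-- The quotient by the stabilizer of a rational point exists and is immersed in the ambient scheme. -/
theorem exists_quotient_orbit {Go : Over (Spec (CommRingCat.of K))} [GrpObj Go]
    [LocallyOfFiniteType G.hom] [QuasiCompact G.hom] [LocallyOfFiniteType X.hom] [IsSeparated X.hom]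
    (a : AlgGrp.Action G X) (o : 𝟙_ (Over (Spec (CommRingCat.of K))) ⟶ X) (i : Go ⟶ G) [IsMonHom i]
    (hGo : IsPullback i (toUnit Go) (a.orbitMap o) o) :
    ∃ (Z : Over (Spec (CommRingCat.of K))) (b : AlgGrp.Action G Z) (y : 𝟙_ _ ⟶ Z) (f : Z ⟶ X),
      AGF.IsQuotient i Z b y ∧ (G ◁ f) ≫ a.act = b.act ≫ f ∧ y ≫ f = o ∧
        b.orbitMap y ≫ f = a.orbitMap o ∧ IsImmersion f.left := by
  have : IsClosedImmersion o.left := by
    have : IsClosedImmersion (o.left ≫ X.hom) := by
      rw [Over.w o]; exact inferInstanceAs (IsClosedImmersion (𝟙 _))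
    exact IsClosedImmersion.of_comp o.left X.hom
  have : IsClosedImmersion i.left :=
    MorphismProperty.of_isPullback (GrpdLib.GrpOver.isPullback_left hGo).flip ‹_›
  have : Mono i.left := inferInstance
  have : Mono i := Over.mono_of_mono_left i
  have : LocallyOfFiniteType Go.hom := by rw [← Over.w i]; infer_instance
  obtain ⟨Z, p, hpf, hps, hpl, hsq⟩ := GrpQuot19.Field.exists_quotient_of_closedSubgroup i
  have hc : AGFQuot.Basic.IsCover p := ⟨hps, hpf, hpl⟩
  have hq := hsq.flip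
  have : LocallyOfFiniteType (p.left ≫ Z.hom) := by rw [Over.w p]; infer_instance
  have : LocallyOfFiniteType Z.hom :=
    GrpdLib.FppfSourceDescent.locallyOfFiniteType_of_comp_fppf p.left Z.hom
  have : QuasiCompact Z.hom := by
    have : QuasiCompact (p.left ≫ Z.hom) := by rw [Over.w p]; infer_instance
    have : CompactSpace G.left := (quasiCompact_iff_compactSpace G.hom).1 inferInstance
    have : CompactSpace Z.left := p.left.surjective.compactSpace p.left.continuous
    exact (quasiCompact_iff_compactSpace Z.hom).2 inferInstance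
  have : EffectiveEpi (G ◁ p).left := (hc.whiskerLeft G).effectiveEpi
  have hmulfix : ∀ {T : Over (Spec (CommRingCat.of K))} (g g' : T ⟶ G),
      g ≫ p = g' ≫ p → ∀ c : T ⟶ G, (c * g) ≫ p = (c * g') ≫ p := fun g g' e c => by
    obtain ⟨t, rfl⟩ := (AGFQuot.Basic.comp_eq_iff hq g g').mp e
    rw [AGFQuot.Basic.comp_eq_iff hq]
    exact ⟨t, _root_.mul_assoc _ _ _⟩
  have hμ : ∀ {T : Over (Spec (CommRingCat.of K))} (w : T ⟶ G ⊗ G),
      w ≫ μ[G] = (w ≫ fst G G) * (w ≫ snd G G) := fun w => by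
    rw [MonObj.mul_eq_mul, MonObj.comp_mul]
  obtain ⟨act, hact, -⟩ := GrpdLib.GrpOver.existsUnique_desc (G ◁ p) (μ[G] ≫ p) fun T u v e => by
    have e1 := e =≫ fst G Z
    have e2 := e =≫ snd G Z
    simp only [Category.assoc, whiskerLeft_fst, whiskerLeft_snd] at e1 e2
    rw [← Category.assoc, ← Category.assoc, hμ, hμ, e1]
    refine hmulfix _ _ ?_ _
    simpa only [Category.assoc] using e2
  have hact' : ∀ {T : Over (Spec (CommRingCat.of K))} (c g : T ⟶ G),
      lift c (g ≫ p) ≫ act = (c * g) ≫ p := fun c g => by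
    rw [← lift_whiskerLeft_assoc, hact, ← Category.assoc, hμ, lift_fst, lift_snd]
  have hone : (η[G] ▷ Z) ≫ act = (λ_ Z).hom := by
    refine (hc.whiskerLeft _).cancel ?_
    refine Eq.trans (?_ : _ = lift (toUnit _ ≫ η[G]) (snd (𝟙_ _) G ≫ p) ≫ act) ?_
    · rw [← Category.assoc]
      congr 1
      exact CartesianMonoidalCategory.hom_ext _ _ (by simp [toUnit_unique (fst (𝟙_ _) G) (toUnit _)])
        (by simp [CartesianMonoidalCategory.leftUnitor_hom])
    · rw [hact', ← Hom.one_def, _root_.one_mul]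
      simp [CartesianMonoidalCategory.leftUnitor_hom]
  have hmul : (μ[G] ▷ Z) ≫ act = (α_ G G Z).hom ≫ (G ◁ act) ≫ act := by
    refine (hc.whiskerLeft _).cancel ?_
    have e1 : ((G ⊗ G) ◁ p) ≫ (μ[G] ▷ Z) =
        lift (fst (G ⊗ G) G ≫ fst G G * (fst (G ⊗ G) G ≫ snd G G)) (snd (G ⊗ G) G ≫ p) :=
      CartesianMonoidalCategory.hom_ext _ _ (by rw [Category.assoc, whiskerRight_fst, lift_fst,
        whiskerLeft_fst_assoc, hμ]) (by simp)
    have e2 : ((G ⊗ G) ◁ p) ≫ (α_ G G Z).hom =
        lift (fst (G ⊗ G) G ≫ fst G G) (lift (fst (G ⊗ G) G ≫ snd G G) (snd (G ⊗ G) G ≫ p)) :=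
      CartesianMonoidalCategory.hom_ext _ _ (by simp)
        (CartesianMonoidalCategory.hom_ext _ _ (by simp) (by simp))
    rw [reassoc_of% e1, reassoc_of% e2, hact', lift_whiskerLeft_assoc, hact', hact',
      _root_.mul_assoc]
  let b : AlgGrp.Action G Z := ⟨act, hone, hmul⟩
  let y : 𝟙_ _ ⟶ Z := η[G] ≫ p
  have horb : b.orbitMap y = p := by
    show lift (𝟙 G) (toUnit G ≫ η[G] ≫ p) ≫ act = p
    rw [← Category.assoc (toUnit G), hact', ← Hom.one_def, _root_.mul_one, Category.id_comp]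
  have hfix : ∀ {T : Over (Spec (CommRingCat.of K))} (g : T ⟶ G),
      g ≫ a.orbitMap o = toUnit T ≫ o ↔ ∃ t : T ⟶ Go, t ≫ i = g := fun {T} g =>
    ⟨fun e => ⟨hGo.lift g (toUnit T) e, hGo.lift_fst _ _ _⟩, fun ⟨t, ht⟩ => by
      rw [← ht, Category.assoc, hGo.w, ← Category.assoc, toUnit_unique (t ≫ toUnit Go) (toUnit T)]⟩
  obtain ⟨f, hf, -⟩ := AGFQuot.Basic.existsUnique_desc hc hq (a.orbitMap o) fun T g t => by
    rw [AGFQuot.Basic.orbitMap_comp, AGFQuot.Basic.orbitMap_comp, Basic.mul_smul']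
    congr 1
    rw [← AGFQuot.Basic.orbitMap_comp]
    exact (hfix _).2 ⟨t, rfl⟩
  have hequiv : (G ◁ f) ≫ a.act = b.act ≫ f := by
    refine (hc.whiskerLeft G).cancel ?_
    rw [← MonoidalCategory.whiskerLeft_comp_assoc, hf, ← Category.assoc (G ◁ p), hact,
      Category.assoc, hf]
    have e : G ◁ a.orbitMap o = lift (fst G G) (snd G G ≫ a.orbitMap o) :=
      CartesianMonoidalCategory.hom_ext _ _ (by simp) (by simp)
    rw [e, AGFQuot.Basic.orbitMap_comp, AGFQuot.Basic.orbitMap_comp, MonObj.mul_eq_mul,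
      Basic.mul_smul']
    rfl
  have hyf : y ≫ f = o := by
    show (η[G] ≫ p) ≫ f = o
    rw [Category.assoc, hf]
    refine ((hfix _).2 ⟨η[Go], IsMonHom.one_hom i⟩).trans ?_
    rw [toUnit_unique (toUnit _) (𝟙 (𝟙_ _)), Category.id_comp]
  have : Mono f := by
    refine ⟨fun {T} s s' e => ?_⟩
    obtain ⟨T₁, c₁, g, hc₁, hg⟩ := hc.exists_lift s
    obtain ⟨T₂, c₂, g', hc₂, hg'⟩ := hc.exists_lift (c₁ ≫ s')
    refine (hc₂.comp hc₁).cancel ?_
    rw [Category.assoc, Category.assoc, ← hg, ← hg', ← Category.assoc]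
    have e' : (c₂ ≫ g) ≫ a.orbitMap o = g' ≫ a.orbitMap o := by
      rw [← hf, ← Category.assoc, ← Category.assoc g', Category.assoc c₂ g p, hg, hg']
      simp only [Category.assoc, e]
    rw [AGFQuot.Basic.comp_eq_iff hq]
    obtain ⟨t, ht⟩ := (hfix ((c₂ ≫ g)⁻¹ * g')).1 (by
      rw [AGFQuot.Basic.orbitMap_comp, Basic.mul_smul', ← AGFQuot.Basic.orbitMap_comp, ← e',
        AGFQuot.Basic.orbitMap_comp, Basic.inv_smul_smul'])
    exact ⟨t, by rw [ht, _root_.mul_inv_cancel_left]⟩
  have : QuasiCompact f.left := GrpdLib.GrpOver.quasiCompact_left f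
  have : Surjective (b.orbitMap y).left := horb ▸ hps
  exact ⟨Z, b, y, f, ⟨‹_›, horb ▸ hpf, horb ▸ hps, horb ▸ hq⟩, hequiv, hyf, by rw [horb, hf],
    isImmersion_of_equivariant_mono a b f hequiv y⟩

end Groth.Agent.GrpQuot50.Orbit
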