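import Groth.Agent.GrpQuot19.Coset
import Groth.Agent.AGFQuot.Basic
import Groth.Agent.GrpdLib.EpiMonoFactor
import Groth.Agent.GrpdLib.FppfSourceDescentScheme
import Groth.Agent.AlgSpB.Art.Wrap
import Groth.Agent.AlgSpB.LqfSep
import Groth.Agent.AlgSpCov.UnramMono
import Groth.Agent.AlgSpCov.FppfSource
import Groth.Agent.AlgSp.LocPFin
import Groth.Prelude.Def_RedSub

/-!
# The quotient of a group scheme by a flat stabilizer
-/

set_option autoImplicit false
set_option linter.style.haveILetI false
set_option synthInstance.maxHeartbeats 200000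
set_option backward.isDefEq.respectTransparency false
set_option backward.isDefEq.respectTransparency.types false

universe u

open CategoryTheory CategoryTheory.Limits AlgebraicGeometry MonoidalCategory CartesianMonoidalCategory
open MonObj GrpObj

noncomputable section

namespace Groth.Agent.GrpQuot50.StabQuot

open _root_.AlgSp (yon RepWith IsEqvRel Space IsAlgSpace repWith_yon_map_iff LocP)
open Groth.Agent.AlgSp (yπ isPullback_yπ isLocallySurjective_yπ isColimit_of_isPullback)

variable {S : Scheme.{u}}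

/-- The stabilizer of a section is locally of finite presentation in both situations of interest. -/
theorem lfp_stabilizer {G X H : Over S} [LocallyOfFinitePresentation G.hom] {o : 𝟙_ (Over S) ⟶ X}
    {φ : G ⟶ X} {h : H ⟶ G} (hH : IsPullback h (toUnit H) φ o)
    (hX : LocallyOfFiniteType X.hom ∨ IsLocallyNoetherian S) : LocallyOfFinitePresentation H.hom := by
  have sq := (GrpdLib.GrpOver.isPullback_left hH).flip
  have e : o.left ≫ X.hom = 𝟙 _ := Over.w o
  rcases hX with hX | hS
  · have : LocallyOfFinitePresentation o.left :=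
      MorphismProperty.of_postcomp (W' := @LocallyOfFiniteType) @LocallyOfFinitePresentation o.left X.hom hX
        (by rw [e]; exact inferInstanceAs (LocallyOfFinitePresentation (𝟙 _)))
    have : LocallyOfFinitePresentation h.left := MorphismProperty.of_isPullback sq ‹_›
    rw [← Over.w h]; infer_instance
  · have : IsImmersion (o.left ≫ X.hom) := by rw [e]; exact inferInstanceAs (IsImmersion (𝟙 _))
    have : IsImmersion o.left := IsImmersion.of_comp o.left X.hom
    have : IsImmersion h.left := MorphismProperty.of_isPullback sq ‹_›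
    have : LocallyOfFiniteType H.hom := by rw [← Over.w h]; infer_instance
    infer_instance

/-- The quotient by a flat stabilizer of a section is a scheme with a monomorphism to the target. -/
theorem exists_quotient_mono {G X H : Over S} [GrpObj G] [LocallyOfFinitePresentation G.hom]
    (a : AlgGrp.Action G X) (o : 𝟙_ (Over S) ⟶ X) [GrpObj H] (h : H ⟶ G) [IsMonHom h]
    (hH : IsPullback h (toUnit H) (a.orbitMap o) o) [Flat H.hom]
    (hX : LocallyOfFiniteType X.hom ∨ IsLocallyNoetherian S) :
    ∃ (Q : Over S) (q : G ⟶ Q), RedSub.IsQuotient h q ∧ LocallyOfFinitePresentation Q.hom ∧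
      ∃ m : Q ⟶ X, Mono m ∧ q ≫ m = a.orbitMap o := by
  have := lfp_stabilizer hH hX
  have : Mono h := ⟨fun {T} u v e => hH.hom_ext e (toUnit_unique _ _)⟩
  let s : G ⊗ H ⟶ G := fst G H
  let t : G ⊗ H ⟶ G := GrpQuot19.Coset.relT h
  have heq : IsEqvRel s t := GrpQuot19.Coset.isEqvRel h
  haveI : Flat s.left := inferInstanceAs (Flat (pullback.fst G.hom H.hom))
  haveI : LocallyOfFinitePresentation s.left :=
    inferInstanceAs (LocallyOfFinitePresentation (pullback.fst G.hom H.hom))
  obtain ⟨hd, hp, hsu⟩ := Groth.Agent.AlgSpB.Art.cover_yπ heq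
  have sq := isPullback_yπ s t heq
  haveI := isLocallySurjective_yπ s t
  let π := yπ s t
  let F : _root_.AlgSp.Sp S := QuotSh.quot Scheme.fppfPrecoverage s t
  have hF : IsAlgSpace F := Groth.Agent.AlgSpB.Art.isAlgSpace_of_fppf_cover hd _ hp hsu
  obtain ⟨hcol⟩ := isColimit_of_isPullback π sq
  have hfix : ∀ {T : Over S} (g : T ⟶ H), (g ≫ h) ≫ a.orbitMap o = toUnit T ≫ o := fun {T} g => by
    rw [Category.assoc, hH.w, ← Category.assoc, toUnit_unique (g ≫ toUnit H) (toUnit T)]
  have hts : t ≫ a.orbitMap o = s ≫ a.orbitMap o := by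
    have e : t = fst G H * (snd G H ≫ h) := by
      have := GrpQuot19.Coset.comp_relT h (𝟙 (G ⊗ H))
      simpa using this
    rw [e, AGFQuot.Basic.orbitMap_comp, AGFQuot.Basic.orbitMap_comp, GrpScheme.Basic.mul_smul']
    refine congrArg (GrpScheme.Basic.smul a (fst G H)) ?_
    rw [← AGFQuot.Basic.orbitMap_comp, hfix]
  obtain ⟨mb, hmb⟩ : ∃ mb, π ≫ mb = (yon S).map (a.orbitMap o) :=
    ⟨_, (Cofork.IsColimit.desc' hcol ((yon S).map (a.orbitMap o)) (by
      rw [← Functor.map_comp, ← Functor.map_comp, hts])).2⟩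
  haveI : Mono mb := GrpdLib.EpiMonoFactor.mono_of_kernelPair π sq mb fun W u v e => by
    rw [hmb, ← Functor.map_comp, ← Functor.map_comp] at e
    have e' := (yon S).map_injective e
    have h1 : (v⁻¹ * u) ≫ a.orbitMap o = toUnit W ≫ o := by
      rw [AGFQuot.Basic.orbitMap_comp, GrpScheme.Basic.mul_smul', ← AGFQuot.Basic.orbitMap_comp, e',
        AGFQuot.Basic.orbitMap_comp, GrpScheme.Basic.inv_smul_smul']
    obtain ⟨r, h1', h2'⟩ := (GrpQuot19.Coset.rel_iff h u v).2
      ⟨hH.lift _ _ h1, hH.lift_fst _ _ _⟩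
    exact ⟨r, h1', h2'⟩
  -- finiteness of the map to `X`
  have hG : LocP @LocallyOfFiniteType ((yon S).map (toUnit G)) :=
    AlgSpCov.locP_of_repWith AlgSpCov.etaleLocal_locallyOfFiniteType
      ((repWith_yon_map_iff _ _).2 (show LocallyOfFiniteType G.hom from inferInstance))
  haveI := AlgSpCov.isLocalAtSource_fppf_locallyOfFiniteType.{u}
  have hFl : LocP @LocallyOfFiniteType (mb ≫ (yon S).map (toUnit X)) :=
    AlgSpCov.locP_of_comp_isLocallySurjective AlgSpCov.etaleLocal_locallyOfFiniteType
      (fun A B e _ he => have : LocallyOfFinitePresentation e := he; inferInstance)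
      (fun A B C s r f hsr hf => AlgSpCov.retract_lft s r f hsr hf)
      (IsAlgSpace.yon_obj G) hF (IsAlgSpace.yon_obj _) (g := π) (by
        rw [← Category.assoc, hmb, ← Functor.map_comp, toUnit_unique (a.orbitMap o ≫ toUnit X) (toUnit G)]
        exact hG)
  have hlft : LocP @LocallyOfFiniteType mb :=
    Groth.Agent.AlgSp.locP_lft_of_comp (IsAlgSpace.yon_obj _) mb _ hFl
  let Fs : Space S := ⟨F, hF⟩
  let Xs : Space S := ⟨(yon S).obj X, IsAlgSpace.yon_obj X⟩
  let fs : Fs ⟶ Xs := ObjectProperty.homMk mb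
  haveI : Mono fs.hom := ‹Mono mb›
  obtain ⟨Q, ⟨eQ⟩⟩ := Groth.Agent.AlgSpB.exists_iso_of_lqf_sep hF mb
    (AlgSpCov.UnramMono.lqf_of_mono_lft fs hlft) (AlgSpCov.UnramMono.isSeparatedMor_of_mono mb)
  obtain ⟨q, hqe⟩ := (yon S).map_surjective (π ≫ eQ.inv)
  obtain ⟨m, hm⟩ := (yon S).map_surjective (eQ.hom ≫ mb)
  have hqf : Flat q.left := by
    refine (repWith_yon_map_iff @Flat q).1 ?_
    rw [hqe]
    exact (MorphismProperty.cancel_right_of_respectsIso (RepWith @Flat) _ _).2
      (Groth.Agent.AlgSp.repWith_mono (fun _ h => h.1) hp)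
  have hqs : Surjective q.left := by
    refine (repWith_yon_map_iff @Surjective q).1 ?_
    rw [hqe]
    exact (MorphismProperty.cancel_right_of_respectsIso (RepWith @Surjective) _ _).2 hsu
  have hql : LocallyOfFinitePresentation q.left := by
    refine (repWith_yon_map_iff @LocallyOfFinitePresentation q).1 ?_
    rw [hqe]
    exact (MorphismProperty.cancel_right_of_respectsIso (RepWith @LocallyOfFinitePresentation) _ _).2
      (Groth.Agent.AlgSp.repWith_mono (fun _ h => h.2) hp)
  have hsq : IsPullback t s q q := by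
    refine IsPullback.of_map_of_faithful (yon S) ?_
    rw [hqe]
    exact IsPullback.of_iso sq (Iso.refl _) (Iso.refl _) (Iso.refl _) eQ.symm
      (by simp) (by simp) (by simp [π]) (by simp [π])
  have : LocallyOfFinitePresentation (q.left ≫ Q.hom) := by rw [Over.w q]; infer_instance
  refine ⟨Q, q, ⟨hqs, hqf, hql, hsq.flip⟩,
    GrpdLib.FppfSourceDescent.locallyOfFinitePresentation_of_comp_fppf q.left Q.hom, m, ?_, ?_⟩
  · refine (yon S).mono_of_mono_map ?_
    rw [hm]; infer_instance
  · refine (yon S).map_injective ?_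
    rw [Functor.map_comp, hqe, hm, Category.assoc, eQ.inv_hom_id_assoc, hmb]

end Groth.Agent.GrpQuot50.StabQuot
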